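/-
Transport of the Thompson subgroup and of `Ω₁(Z(S))` along isomorphisms and `p'`-kernel surjections.
-/
import Cfsg.Agent.Lib.Core.CoprimeMap
import Cfsg.Prelude.Def_PLocal

set_option autoImplicit false

namespace Cfsg.Agent.Lib.Core.ThompsonMap

open Subgroup Cfsg Cfsg.Agent.Lib.Core.Basic Cfsg.Agent.Lib.Core.CoprimeMap

universe u

variable {p : ℕ} {G H P Q : Type u} [Group G] [Group H] [Group P] [Group Q]

theorem isElementaryAbelian_map (e : P ≃* Q) {A : Subgroup P} (hA : IsElementaryAbelian p A) :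
    IsElementaryAbelian p (A.map e.toMonoidHom) := by
  obtain ⟨hc, hp⟩ := hA
  refine ⟨⟨⟨?_⟩⟩, ?_⟩
  · rintro ⟨_, a, ha, rfl⟩ ⟨_, b, hb, rfl⟩
    apply Subtype.ext
    have h := hc.is_comm.comm ⟨a, ha⟩ ⟨b, hb⟩
    have h' : a * b = b * a := congrArg Subtype.val h
    change e a * e b = e b * e a
    rw [← map_mul, ← map_mul, h']
  · rintro _ ⟨a, ha, rfl⟩
    change (e a) ^ p = 1
    rw [← map_pow, hp a ha, map_one]

theorem mem_maxElementaryAbelianSubgroups_map (e : P ≃* Q) {A : Subgroup P}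
    (hA : A ∈ maxElementaryAbelianSubgroups p P) :
    A.map e.toMonoidHom ∈ maxElementaryAbelianSubgroups p Q := by
  refine ⟨isElementaryAbelian_map e hA.1, fun B hB => ?_⟩
  have h1 := hA.2 (B.map e.symm.toMonoidHom) (isElementaryAbelian_map e.symm hB)
  have h2 : Nat.card (B.map e.symm.toMonoidHom) = Nat.card B :=
    (Nat.card_congr (B.equivMapOfInjective _ e.symm.injective).toEquiv).symm
  have h3 : Nat.card (A.map e.toMonoidHom) = Nat.card A :=
    (Nat.card_congr (A.equivMapOfInjective _ e.injective).toEquiv).symm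
  rw [h3, ← h2]
  exact h1

theorem map_thompsonSubgroup_le (e : P ≃* Q) :
    (thompsonSubgroup p P).map e.toMonoidHom ≤ thompsonSubgroup p Q := by
  rw [Subgroup.map_le_iff_le_comap]
  refine sSup_le fun A hA => ?_
  rw [← Subgroup.map_le_iff_le_comap]
  exact le_sSup (mem_maxElementaryAbelianSubgroups_map e hA)

/-- The Thompson subgroup is invariant under isomorphisms. -/
theorem map_thompsonSubgroup_equiv (e : P ≃* Q) :
    (thompsonSubgroup p P).map e.toMonoidHom = thompsonSubgroup p Q := by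
  apply le_antisymm (map_thompsonSubgroup_le e)
  intro x hx
  have := map_thompsonSubgroup_le (p := p) e.symm ⟨x, hx, rfl⟩
  exact ⟨_, this, by simp⟩

theorem thompsonSubgroupOf_le (S : Subgroup G) : thompsonSubgroupOf p S ≤ S :=
  Subgroup.map_subtype_le _

theorem omegaOne_le {S : Subgroup G} {A : Subgroup G} (h : A ≤ S) : omegaOne p A ≤ S :=
  (Subgroup.closure_le _).mpr fun _ hx => h hx.1

/-- The image of `J(S)` is `J` of the image, for a surjection with `p'`-kernel. -/
theorem map_thompsonSubgroupOf [Finite G] [Fact p.Prime] {S : Subgroup G} (f : G →* H)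
    (hS : IsPGroup p S) (hker : (Nat.card f.ker).Coprime p) :
    (thompsonSubgroupOf p S).map f = thompsonSubgroupOf p (S.map f) := by
  let e : S ≃* S.map f := equivMapOfCoprime f hS hker
  rw [thompsonSubgroupOf, thompsonSubgroupOf, ← map_thompsonSubgroup_equiv e]
  ext y
  constructor
  · rintro ⟨_, ⟨x, hx, rfl⟩, rfl⟩
    exact ⟨e x, ⟨x, hx, rfl⟩, rfl⟩
  · rintro ⟨_, ⟨x, hx, rfl⟩, rfl⟩
    exact ⟨x, ⟨x, hx, rfl⟩, rfl⟩

/-- The image of `Ω₁(Z(S))` is `Ω₁(Z)` of the image, for a surjection with `p'`-kernel. -/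
theorem map_omegaOne_center [Finite G] [Fact p.Prime] {S : Subgroup G} (f : G →* H)
    (hS : IsPGroup p S) (hker : (Nat.card f.ker).Coprime p) :
    (omegaOne p (S ⊓ centralizer (S : Set G))).map f =
      omegaOne p (S.map f ⊓ centralizer (S.map f : Set H)) := by
  rw [omegaOne, omegaOne, MonoidHom.map_closure]
  congr 1
  ext y
  constructor
  · rintro ⟨x, ⟨⟨hxS, hxc⟩, hxp⟩, rfl⟩
    refine ⟨⟨⟨x, hxS, rfl⟩, ?_⟩, ?_⟩
    · refine Subgroup.mem_centralizer_iff.mpr ?_
      rintro _ ⟨u, hu, rfl⟩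
      rw [← map_mul, ← map_mul, (Subgroup.mem_centralizer_iff.mp hxc) u hu]
    · rw [← map_pow, hxp, map_one]
  · rintro ⟨⟨⟨x, hxS, rfl⟩, hyc⟩, hyp⟩
    refine ⟨x, ⟨⟨hxS, ?_⟩, ?_⟩, rfl⟩
    · refine Subgroup.mem_centralizer_iff.mpr ?_
      intro u hu
      have hu' : u ∈ S := hu
      have h1 := (Subgroup.mem_centralizer_iff.mp hyc) (f u) ⟨u, hu', rfl⟩
      rw [← map_mul, ← map_mul] at h1
      exact injOn_of_coprime f hS hker (S.mul_mem hu' hxS) (S.mul_mem hxS hu') h1
    · apply injOn_of_coprime f hS hker (S.pow_mem hxS p) S.one_mem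
      simpa using hyp

end Cfsg.Agent.Lib.Core.ThompsonMap
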